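import Mathlib

/-!
A linear group with an abelian normal subgroup acting irreducibly is semilinear of dimension one.
-/

set_option autoImplicit false
set_option linter.unusedSectionVars false

namespace CfsgLib.RegularLinear

variable {q : ℕ} [Fact q.Prime] {V : Type*} [AddCommGroup V] [Module (ZMod q) V] [Finite V] [Nontrivial V]
  {G : Type*} [Group G]

/-- Semilinearity of dimension one. -/
def Semi (ρ : G →* (V ≃ₗ[ZMod q] V)) : Prop :=
  ∃ (F : Type) (_ : Field F) (_ : Fintype F) (e : V ≃+ F),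
    ∀ g : G, ∃ (a : F) (σ : F ≃+* F), ∀ v : V, e (ρ g v) = a * σ (e v)

theorem semi_of_irreducible (ρ : G →* (V ≃ₗ[ZMod q] V)) (A : Subgroup G) [hAn : A.Normal]
    (hAc : ∀ a ∈ A, ∀ b ∈ A, a * b = b * a)
    (hirr : ∀ W : Submodule (ZMod q) V, (∀ a ∈ A, ∀ w ∈ W, ρ a w ∈ W) → W = ⊥ ∨ W = ⊤) : Semi ρ := by
  classical
  let ψ : A → Module.End (ZMod q) V := fun a => (ρ (a : G)).toLinearMap
  let S := Algebra.adjoin (ZMod q) (Set.range ψ)
  have hc : ∀ f ∈ Set.range ψ, ∀ g ∈ Set.range ψ, f * g = g * f := by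
    rintro _ ⟨a, rfl⟩ _ ⟨b, rfl⟩
    refine LinearMap.ext fun v => ?_
    change ρ (a : G) (ρ (b : G) v) = ρ (b : G) (ρ (a : G) v)
    rw [← LinearEquiv.mul_apply, ← LinearEquiv.mul_apply, ← map_mul, ← map_mul, hAc a a.2 b b.2]
  letI : CommRing S := Algebra.adjoinCommRingOfComm (ZMod q) hc
  obtain ⟨v₀, hv₀⟩ := exists_ne (0 : V)
  have hcent : ∀ (r : S) (a : A) (v : V), (r : Module.End (ZMod q) V) (ψ a v) = ψ a ((r : Module.End (ZMod q) V) v) :=
    fun r a v => LinearMap.congr_fun (congrArg Subtype.val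
      (mul_comm r (⟨ψ a, Algebra.subset_adjoin ⟨a, rfl⟩⟩ : S))) v
  have hinj : ∀ r : S, r ≠ 0 → Function.Injective (r : Module.End (ZMod q) V) := fun r hr => by
    rcases hirr (LinearMap.ker (r : Module.End (ZMod q) V)) (fun a ha w hw => by
      rw [LinearMap.mem_ker] at hw ⊢
      have := hcent r ⟨a, ha⟩ w
      rw [hw, map_zero] at this
      exact this) with h | h
    · exact LinearMap.ker_eq_bot.1 h
    · exact absurd (Subtype.ext (LinearMap.ker_eq_top.1 h)) hr
  haveI : Nontrivial S := ⟨⟨1, 0, fun e => by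
    have := LinearMap.congr_fun (congrArg Subtype.val e) v₀
    exact hv₀ this⟩⟩
  haveI : NoZeroDivisors S := ⟨fun {r s} h => by
    by_contra hh
    push Not at hh
    have h2 : (r : Module.End (ZMod q) V) ((s : Module.End (ZMod q) V) v₀) = 0 :=
      LinearMap.congr_fun (congrArg Subtype.val h) v₀
    exact hv₀ (hinj s hh.2 ((hinj r hh.1 (h2.trans (map_zero _).symm)).trans (map_zero _).symm))⟩
  haveI : IsDomain S := NoZeroDivisors.to_isDomain S
  let ev : S →+ V :=
    { toFun := fun r => (r : Module.End (ZMod q) V) v₀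
      map_zero' := rfl
      map_add' := fun _ _ => rfl }
  have hev : Function.Bijective ev := by
    refine ⟨(injective_iff_map_eq_zero ev).2 fun r hr => ?_, ?_⟩
    · by_contra h0
      exact hv₀ (hinj r h0 (hr.trans (map_zero _).symm))
    · let W : Submodule (ZMod q) V :=
        { carrier := Set.range ev
          add_mem' := by rintro _ _ ⟨a, rfl⟩ ⟨b, rfl⟩; exact ⟨a + b, map_add ev a b⟩
          zero_mem' := ⟨0, map_zero ev⟩
          smul_mem' := by rintro c _ ⟨a, rfl⟩; exact ⟨c • a, rfl⟩ }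
      rcases hirr W (fun a ha w hw => by
        obtain ⟨r, rfl⟩ := hw
        exact ⟨⟨ψ ⟨a, ha⟩, Algebra.subset_adjoin ⟨_, rfl⟩⟩ * r, rfl⟩) with h | h
      · exact absurd ((Submodule.mem_bot (ZMod q)).1 (h ▸ (⟨1, rfl⟩ : v₀ ∈ W))) hv₀
      · exact fun v => (h ▸ Submodule.mem_top : v ∈ W)
  haveI : Finite S := Finite.of_injective ev hev.1
  letI fS : Field S := (Finite.isField_of_domain S).toField
  haveI : Fintype S := Fintype.ofFinite S
  haveI : CharP S q := by
    haveI : Fact q.Prime := inferInstance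
    exact charP_of_injective_algebraMap (algebraMap (ZMod q) S).injective q
  obtain ⟨n, -, hn⟩ := FiniteField.card S q
  haveI : Fintype (GaloisField q n) := Fintype.ofFinite _
  let ι : S ≃+* GaloisField q n := FiniteField.ringEquivOfCardEq
    (by rw [hn, ← Nat.card_eq_fintype_card, GaloisField.card q n n.2.ne'])
  let ev' : S ≃+ V := AddEquiv.ofBijective ev hev
  refine ⟨GaloisField q n, inferInstance, inferInstance, ev'.symm.trans ι.toAddEquiv, fun g => ?_⟩
  have hT : ∀ (x : G) (v : V), ρ x (ρ x⁻¹ v) = v := fun x v => by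
    rw [← LinearEquiv.mul_apply, ← map_mul, mul_inv_cancel, map_one]; rfl
  let conjE : G → Module.End (ZMod q) V →ₐ[ZMod q] Module.End (ZMod q) V := fun x =>
    (LinearEquiv.conjAlgEquiv (ZMod q) (ρ x)).toAlgHom
  have hconjE : ∀ (x : G) (f : Module.End (ZMod q) V) (v : V), conjE x f v = ρ x (f ((ρ x).symm v)) := fun x f v => rfl
  have hsymm : ∀ (x : G) (v : V), (ρ x).symm v = ρ x⁻¹ v := fun x v => by rw [map_inv]; rfl
  have hmem : ∀ (x : G), ∀ f ∈ S, conjE x f ∈ S := by
    intro x f hf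
    have h1 : S.map (conjE x) ≤ S := by
      rw [AlgHom.map_adjoin]
      refine Algebra.adjoin_le ?_
      rintro _ ⟨_, ⟨a, rfl⟩, rfl⟩
      refine Algebra.subset_adjoin ⟨⟨x * a * x⁻¹, hAn.conj_mem a a.2 x⟩, LinearMap.ext fun v => ?_⟩
      rw [hconjE, hsymm]
      change ρ (x * a * x⁻¹) v = ρ x (ρ (a : G) (ρ x⁻¹ v))
      rw [map_mul, map_mul]
      rfl
    exact h1 ⟨f, hf, rfl⟩
  let σ₀ : S ≃+* S :=
    { toFun := fun r => ⟨conjE g r, hmem g r r.2⟩
      invFun := fun r => ⟨conjE g⁻¹ r, hmem g⁻¹ r r.2⟩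
      left_inv := fun r => Subtype.ext (LinearMap.ext fun v => by
        change conjE g⁻¹ (conjE g (r : Module.End (ZMod q) V)) v = (r : Module.End (ZMod q) V) v
        rw [hconjE, hconjE, hsymm, hsymm, inv_inv]
        have := hT g⁻¹ ((r : Module.End (ZMod q) V) (ρ g⁻¹ (ρ g v)))
        rw [inv_inv] at this
        rw [this]
        have h' := hT g⁻¹ v
        rw [inv_inv] at h'
        rw [h'])
      right_inv := fun r => Subtype.ext (LinearMap.ext fun v => by
        change conjE g (conjE g⁻¹ (r : Module.End (ZMod q) V)) v = (r : Module.End (ZMod q) V) v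
        rw [hconjE, hconjE, hsymm, hsymm, inv_inv, hT, hT])
      map_mul' := fun r s => Subtype.ext (map_mul (conjE g) (r : Module.End (ZMod q) V) s)
      map_add' := fun r s => Subtype.ext (map_add (conjE g) (r : Module.End (ZMod q) V) s) }
  refine ⟨ι (ev'.symm (ρ g v₀)), ι.symm.trans (σ₀.trans ι), fun v => ?_⟩
  obtain ⟨r, rfl⟩ := ev'.surjective v
  simp only [AddEquiv.trans_apply, RingEquiv.trans_apply, AddEquiv.symm_apply_apply]
  change ι (ev'.symm (ρ g (ev' r))) = ι (ev'.symm (ρ g v₀)) * ι (σ₀ (ι.symm (ι r)))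
  rw [RingEquiv.symm_apply_apply, ← map_mul]
  refine congrArg ι (ev'.injective ?_)
  rw [AddEquiv.apply_symm_apply, mul_comm]
  change ρ g ((r : Module.End (ZMod q) V) v₀) =
    conjE g (r : Module.End (ZMod q) V) ((ev'.symm (ρ g v₀) : Module.End (ZMod q) V) v₀)
  rw [show ((ev'.symm (ρ g v₀) : Module.End (ZMod q) V) v₀) = ρ g v₀ from ev'.apply_symm_apply _, hconjE,
    LinearEquiv.symm_apply_apply]

end CfsgLib.RegularLinear
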