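import Mathlib
import Cfsg.Agent.S0684
import Cfsg.Agent.Lib.UniqueSubgroup
import Cfsg.Agent.Lib.PSolvable
import Cfsg.Agent.Lib.RegularLinear.Semilinear

/-!
Fixed-point-free linear groups: abelian subgroups are cyclic, and an element whose order is a large primitive
prime centralises the Fitting subgroup.
-/

set_option autoImplicit false
set_option linter.unusedSectionVars false

namespace CfsgLib.RegularLinear

open Polynomial

theorem q8_four : Nat.card {c : QuaternionGroup (2 ^ 1) // orderOf c = 4} = 6 := by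
  have h4 : ∀ c : QuaternionGroup (2 ^ 1), (c * c) * (c * c) = 1 := by decide +kernel
  have h : ∀ c : QuaternionGroup (2 ^ 1), orderOf c = 4 ↔ c * c ≠ 1 := by
    intro c
    constructor
    · intro h e
      rw [← pow_two] at e
      have := orderOf_dvd_of_pow_eq_one e
      rw [h] at this
      norm_num at this
    · intro h
      haveI := Fact.mk Nat.prime_two
      refine orderOf_eq_prime_pow (p := 2) (n := 1) ?_ ?_
      · change ¬ c ^ (2 : ℕ) = 1
        rwa [pow_two]
      · change c ^ (2 + 2 : ℕ) = 1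
        rw [pow_add, pow_two]
        exact h4 c
  rw [Nat.card_eq_fintype_card]
  simp only [h]
  decide +kernel

variable {q : ℕ} [hq : Fact q.Prime] {V : Type*} [AddCommGroup V] [Module (ZMod q) V] [Finite V] [Nontrivial V]
  {G : Type*} [Group G] [Finite G] {ρ : G →* (V ≃ₗ[ZMod q] V)}
  (hfree : ∀ (g : G) (v : V), v ≠ 0 → ρ g v = v → g = 1)
include hfree

theorem injective : Function.Injective ρ := by
  refine (injective_iff_map_eq_one ρ).mpr fun g hg => ?_
  obtain ⟨v, hv⟩ := exists_ne (0 : V)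
  exact hfree g v hv (by rw [hg]; rfl)

theorem cyclic_dvd {A : Subgroup G} (hA : ∀ a ∈ A, ∀ b ∈ A, a * b = b * a) (W₀ : Submodule (ZMod q) V) (h0 : W₀ ≠ ⊥)
    (hinv : ∀ a ∈ A, ∀ w ∈ W₀, ρ a w ∈ W₀) :
    IsCyclic A ∧ ∃ i, 1 ≤ i ∧ i ≤ Module.finrank (ZMod q) W₀ ∧ Nat.card A ∣ q ^ i - 1 := by
  obtain ⟨W, hle, hne, hi, hm⟩ := Cfsg.Agent.S0684.existsMinimal (A := A) (fun a v => ρ (a : G) v) W₀ h0
    (fun a v hv => hinv a a.2 v hv)
  obtain ⟨hc, hd⟩ := Cfsg.Agent.S0684.cyclicOfMinimal (A := A) (fun a b => Subtype.ext (hA a a.2 b b.2))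
    (ρ.comp A.subtype) (fun a v hv h => Subtype.ext (hfree a v hv h)) W hne hi hm
  refine ⟨hc, Module.finrank (ZMod q) W, ?_, Submodule.finrank_mono hle, hd⟩
  exact Submodule.one_le_finrank_iff.mpr hne

theorem cyclic_of_comm {A : Subgroup G} (hA : ∀ a ∈ A, ∀ b ∈ A, a * b = b * a) : IsCyclic A :=
  (cyclic_dvd hfree hA ⊤ top_ne_bot fun _ _ _ _ => Submodule.mem_top).1

theorem irreducible_of {A : Subgroup G} (hA : ∀ a ∈ A, ∀ b ∈ A, a * b = b * a)
    (h : ∀ i, 1 ≤ i → i < Module.finrank (ZMod q) V → ¬ Nat.card A ∣ q ^ i - 1)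
    (W : Submodule (ZMod q) V) (hinv : ∀ a ∈ A, ∀ w ∈ W, ρ a w ∈ W) : W = ⊥ ∨ W = ⊤ := by
  by_contra hh
  push Not at hh
  obtain ⟨-, i, hi1, hi2, hi3⟩ := cyclic_dvd hfree hA W hh.1 hinv
  exact h i hi1 (lt_of_le_of_lt hi2 (Submodule.finrank_lt hh.2)) hi3

theorem semi_of_dvd (A : Subgroup G) [A.Normal] (hA : ∀ a ∈ A, ∀ b ∈ A, a * b = b * a)
    (h : ∀ i, 1 ≤ i → i < Module.finrank (ZMod q) V → ¬ Nat.card A ∣ q ^ i - 1) : Semi ρ :=
  semi_of_irreducible ρ A hA fun W hW => irreducible_of hfree hA h W hW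

theorem pgroup_cases {s : ℕ} [hs : Fact s.Prime] (S : Subgroup G) (hS : IsPGroup s S) :
    IsCyclic S ∨ (s = 2 ∧ ∃ n : ℕ, 1 ≤ n ∧ Nonempty (S ≃* QuaternionGroup (2 ^ n))) := by
  by_cases hbot : S = ⊥
  · left; subst hbot; infer_instance
  haveI : Nontrivial S := (Subgroup.nontrivial_iff_ne_bot S).mpr hbot
  haveI := hS.center_nontrivial
  obtain ⟨k, hk⟩ := (hS.to_subgroup (Subgroup.center S)).exists_card_eq
  have hk0 : k ≠ 0 := fun e => by
    have := Finite.one_lt_card (α := Subgroup.center S)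
    rw [hk, e, pow_zero] at this
    omega
  obtain ⟨z, hz⟩ := exists_prime_orderOf_dvd_card' s (show s ∣ Nat.card (Subgroup.center S) from hk ▸ dvd_pow_self s hk0)
  have hzS : orderOf (z : S) = s := by rw [Subgroup.orderOf_coe, hz]
  refine CfsgLib.UniqueSubgroup.cyclic_or_quaternion hS hzS fun x hx => ?_
  by_contra hxz
  let B : Subgroup G := (Subgroup.zpowers (z : S) ⊔ Subgroup.zpowers x).map S.subtype
  have hcz : ∀ a : S, Commute a (z : S) := fun a => Subgroup.mem_center_iff.mp z.2 a
  have hB : ∀ a ∈ B, ∀ b ∈ B, a * b = b * a := by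
    have hle : Subgroup.zpowers (z : S) ⊔ Subgroup.zpowers x ≤
        Subgroup.centralizer ((Subgroup.zpowers (z : S) ⊔ Subgroup.zpowers x : Subgroup S) : Set S) := by
      rw [Subgroup.zpowers_eq_closure, Subgroup.zpowers_eq_closure, ← Subgroup.closure_union,
        Subgroup.centralizer_closure, Subgroup.closure_le]
      intro a ha b hb
      rcases hb with rfl | rfl <;> rcases ha with rfl | rfl
      · rfl
      · exact ((hcz _).eq).symm
      · exact (hcz _).eq
      · rfl
    rintro _ ⟨a, ha, rfl⟩ _ ⟨b, hb, rfl⟩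
    rw [← map_mul, ← map_mul, Subgroup.mem_centralizer_iff.mp (hle hb) a ha]
  haveI := cyclic_of_comm hfree hB
  haveI : IsCyclic (Subgroup.zpowers (z : S) ⊔ Subgroup.zpowers x : Subgroup S) :=
    isCyclic_of_surjective _ ((Subgroup.equivMapOfInjective _ S.subtype S.subtype_injective).symm.surjective)
  set C : Subgroup S := Subgroup.zpowers (z : S) ⊔ Subgroup.zpowers x
  classical
  haveI := Fintype.ofFinite C
  let zc : C := ⟨z, Subgroup.mem_sup_left (Subgroup.mem_zpowers _)⟩
  let xc : C := ⟨x, Subgroup.mem_sup_right (Subgroup.mem_zpowers _)⟩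
  have hzc : orderOf zc = s := by rw [Subgroup.orderOf_mk, hzS]
  have hle2 := IsCyclic.card_pow_eq_one_le (α := C) hs.out.pos
  -- the powers of `z` and `x` give more than `s` solutions of `c ^ s = 1`
  let T : Finset C := (Finset.range s).image (fun i => zc ^ i)
  have hT : T.card = s := by
    rw [Finset.card_image_of_injOn fun i hi j hj e => ?_, Finset.card_range]
    simp only [Finset.coe_range, Set.mem_Iio] at hi hj
    have := pow_eq_pow_iff_modEq.mp e
    rwa [hzc, Nat.ModEq, Nat.mod_eq_of_lt hi, Nat.mod_eq_of_lt hj] at this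
  have hxT : xc ∉ T := fun hm => by
    obtain ⟨i, -, e⟩ := Finset.mem_image.mp hm
    exact hxz (Subgroup.mem_zpowers_iff.mpr ⟨i, by rw [zpow_natCast]; exact congrArg Subtype.val e⟩)
  have hsub : insert xc T ⊆ Finset.univ.filter (fun c : C => c ^ s = 1) := by
    intro c hc
    simp only [Finset.mem_filter, Finset.mem_univ, true_and]
    rcases Finset.mem_insert.mp hc with rfl | hc
    · exact Subtype.ext hx
    · obtain ⟨i, -, rfl⟩ := Finset.mem_image.mp hc
      rw [← pow_mul, mul_comm, pow_mul, ← hzc, pow_orderOf_eq_one, one_pow]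
  have := (Finset.card_le_card hsub).trans hle2
  rw [Finset.card_insert_of_notMem hxT, hT] at this
  omega

omit hfree in
/-- An element of large prime order centralises a fixed-point-free cyclic subgroup that it normalises. -/
theorem fix_cyclic_of {x y : G} {r : ℕ} [hr : Fact r.Prime] (hx : orderOf x = r)
    (hy : ∀ (j : ℕ) (v : V), v ≠ 0 → ρ (y ^ j) v = v → y ^ j = 1)
    (hr' : Module.finrank (ZMod q) V < r) (hn : x * y * x⁻¹ ∈ Subgroup.zpowers y) : x * y = y * x := by
  classical
  by_contra hxy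
  obtain ⟨i, -, hi⟩ := Finset.mem_image.mp (mem_zpowers_iff_mem_range_orderOf.mp hn)
  let T : Module.End (ZMod q) V := (ρ y).toLinearMap
  have hTp : ∀ (j : ℕ) (v : V), (T ^ j) v = ρ (y ^ j) v := fun j => by
    induction j with
    | zero => intro v; rw [pow_zero, pow_zero, map_one]; rfl
    | succ j ih =>
      intro v
      rw [pow_succ, pow_succ, map_mul, Module.End.mul_apply, ih]
      rfl
  let μ := minpoly (ZMod q) T
  have hint : IsIntegral (ZMod q) T := Algebra.IsIntegral.isIntegral T
  have hμ0 : μ ≠ 0 := minpoly.ne_zero hint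
  have hdeg : μ.natDegree ≤ Module.finrank (ZMod q) V := by
    refine (Polynomial.natDegree_le_of_dvd (LinearMap.minpoly_dvd_charpoly T) (LinearMap.charpoly_monic T).ne_zero).trans ?_
    rw [LinearMap.charpoly_natDegree]
  let K := AlgebraicClosure (ZMod q)
  let R : Finset K := (μ.map (algebraMap (ZMod q) K)).roots.toFinset
  have hR : ∀ ζ, ζ ∈ R ↔ aeval ζ μ = 0 := fun ζ => by
    rw [Multiset.mem_toFinset, Polynomial.mem_roots (Polynomial.map_ne_zero hμ0), Polynomial.IsRoot.def,
      Polynomial.eval_map, aeval_def]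
  have hRcard : R.card ≤ Module.finrank (ZMod q) V :=
    ((Multiset.toFinset_card_le _).trans (Polynomial.card_roots' _)).trans (by rw [Polynomial.natDegree_map]; exact hdeg)
  obtain ⟨ζ, hζ⟩ := IsAlgClosed.exists_root (μ.map (algebraMap (ZMod q) K)) (by
    rw [Polynomial.degree_map]; exact (minpoly.degree_pos hint).ne')
  have hζR : aeval ζ μ = 0 := by rwa [aeval_def, ← Polynomial.eval_map]
  -- the order of a root is the order of `y`
  have hord : orderOf ζ = orderOf y := by
    apply Nat.dvd_antisymm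
    · refine orderOf_dvd_of_pow_eq_one ?_
      have hd : μ ∣ X ^ orderOf y - 1 := minpoly.dvd _ _ (by
        rw [map_sub, map_pow, aeval_X, map_one, sub_eq_zero]
        refine LinearMap.ext fun v => ?_
        rw [hTp, pow_orderOf_eq_one, map_one]; rfl)
      have := Polynomial.eval₂_eq_zero_of_dvd_of_eval₂_eq_zero (algebraMap (ZMod q) K) ζ hd (by rwa [← aeval_def])
      simpa [sub_eq_zero] using this
    · refine orderOf_dvd_of_pow_eq_one ?_
      set f : (ZMod q)[X] := X ^ orderOf ζ - 1 with hf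
      by_cases hcop : IsCoprime μ f
      · exfalso
        obtain ⟨a, b, hab⟩ := hcop
        have := congrArg (aeval ζ) hab
        rw [map_add, map_mul, map_mul, hζR, map_one, hf, map_sub, map_pow, aeval_X, map_one, pow_orderOf_eq_one,
          sub_self, mul_zero, mul_zero, add_zero] at this
        exact zero_ne_one this
      · obtain ⟨h, hh, h1, h2⟩ : ∃ h : (ZMod q)[X], ¬ IsUnit h ∧ h ∣ μ ∧ h ∣ f := by
          refine ⟨EuclideanDomain.gcd μ f, fun hu => hcop (EuclideanDomain.gcd_isUnit_iff.mp hu),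
            EuclideanDomain.gcd_dvd_left _ _, EuclideanDomain.gcd_dvd_right _ _⟩
        obtain ⟨ν, hν⟩ := h1
        obtain ⟨κ, hκ⟩ := h2
        have hνT : aeval T ν ≠ 0 := fun e => by
          have hd := minpoly.dvd _ _ e
          change μ ∣ ν at hd
          rw [hν] at hd
          have hν0 : ν ≠ 0 := fun e0 => hμ0 (by rw [hν, e0, mul_zero])
          obtain ⟨c, hc⟩ := hd
          exact hh (IsUnit.of_mul_eq_one c (mul_right_cancel₀ hν0 (by rw [one_mul]; nth_rw 2 [hc]; ring)))
        obtain ⟨v, hv⟩ : ∃ v, aeval T ν v ≠ 0 := by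
          by_contra hall
          push Not at hall
          exact hνT (LinearMap.ext hall)
        have hμv : aeval T f (aeval T ν v) = 0 := by
          rw [← Module.End.mul_apply, ← map_mul, hκ, show h * κ * ν = μ * κ by rw [hν]; ring, map_mul,
            minpoly.aeval, zero_mul]
          rfl
        refine hy _ _ hv ?_
        rw [hf, map_sub, map_pow, aeval_X, map_one, LinearMap.sub_apply, sub_eq_zero, hTp] at hμv
        exact hμv
  -- the exponent permutes the roots
  have hstab : ∀ η : K, aeval η μ = 0 → aeval (η ^ i) μ = 0 := fun η hη => by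
    have hd : μ ∣ μ.comp (X ^ i) := minpoly.dvd _ _ (by
      rw [aeval_comp, map_pow, aeval_X]
      let c := (LinearEquiv.conjAlgEquiv (ZMod q) (ρ x)).toAlgHom
      have hc : c T = T ^ i := by
        refine LinearMap.ext fun v => ?_
        rw [hTp, hi, map_mul, map_mul, map_inv]
        rfl
      rw [← hc, Polynomial.aeval_algHom_apply, minpoly.aeval, map_zero])
    have := Polynomial.eval₂_eq_zero_of_dvd_of_eval₂_eq_zero (algebraMap (ZMod q) K) η hd (by rwa [← aeval_def])
    rwa [← aeval_def, aeval_comp, map_pow, aeval_X] at this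
  have hconj : ∀ k : ℕ, y ^ (i ^ k) = x ^ k * y * (x ^ k)⁻¹ := fun k => by
    induction k with
    | zero => simp
    | succ k ih =>
      rw [pow_succ i, pow_mul, ih, conj_pow, hi, pow_succ x]
      group
  have hmem : ∀ k : ℕ, ζ ^ (i ^ k) ∈ R := fun k => by
    induction k with
    | zero => rw [pow_zero, pow_one]; exact (hR ζ).mpr hζR
    | succ k ih => rw [pow_succ i, pow_mul]; exact (hR _).mpr (hstab _ ((hR _).mp ih))
  have hinj : Set.InjOn (fun k => ζ ^ (i ^ k)) (Finset.range r : Set ℕ) := by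
    have hζu : IsUnit ζ := IsUnit.of_pow_eq_one (pow_orderOf_eq_one ζ) (by rw [hord]; exact (orderOf_pos y).ne')
    intro a ha b hb e
    simp only [Finset.coe_range, Set.mem_Iio] at ha hb
    have e' : y ^ (i ^ a) = y ^ (i ^ b) := by
      rw [pow_eq_pow_iff_modEq, ← hord, ← hζu.unit_spec, orderOf_units, ← pow_eq_pow_iff_modEq]
      exact Units.ext (by simpa using e)
    rw [hconj, hconj] at e'
    by_contra hab
    -- `x ^ (b - a)` commutes with `y`, hence so does `x`
    have hkey : ∀ a b : ℕ, a < b → b < r → x ^ a * y * (x ^ a)⁻¹ = x ^ b * y * (x ^ b)⁻¹ → False := by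
      intro a b hlt hbr e'
      obtain ⟨d, rfl⟩ := Nat.exists_eq_add_of_lt hlt
      rw [show a + d + 1 = a + (d + 1) by ring, pow_add] at e'
      have hcom : Commute (x ^ (d + 1)) y := by
        refine mul_inv_eq_iff_eq_mul.mp ?_
        calc x ^ (d + 1) * y * (x ^ (d + 1))⁻¹
            = (x ^ a)⁻¹ * (x ^ a * x ^ (d + 1) * y * (x ^ a * x ^ (d + 1))⁻¹) * x ^ a := by group
          _ = y := by rw [← e']; group
      refine hxy ?_
      have hcop : Nat.Coprime (d + 1) (orderOf x) := by
        rw [hx, Nat.coprime_comm, hr.out.coprime_iff_not_dvd]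
        exact fun hd => absurd (Nat.le_of_dvd (by omega) hd) (by omega)
      obtain ⟨m, hm⟩ := exists_pow_eq_self_of_coprime hcop
      exact hm ▸ (hcom.pow_left m).eq
    rcases lt_or_gt_of_ne hab with h | h
    · exact hkey a b h hb e'
    · exact hkey b a h ha e'.symm
  have := (Finset.card_le_card (s := (Finset.range r).image (fun k => ζ ^ (i ^ k))) (t := R) (fun t ht => by
    obtain ⟨k, -, rfl⟩ := Finset.mem_image.mp ht
    exact hmem k))
  rw [Finset.card_image_of_injOn hinj, Finset.card_range] at this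
  omega

/-- An element of large prime order centralises a cyclic subgroup that it normalises. -/
theorem fix_cyclic {x y : G} {r : ℕ} [hr : Fact r.Prime] (hx : orderOf x = r)
    (hr' : Module.finrank (ZMod q) V < r) (hn : x * y * x⁻¹ ∈ Subgroup.zpowers y) : x * y = y * x :=
  fix_cyclic_of hx (fun _ v hv h => hfree _ v hv h) hr' hn

/-- An element of order a primitive prime `r ≥ 5` centralises every normal `s`-subgroup. -/
theorem centralizes {x : G} {r : ℕ} [hr : Fact r.Prime] (hx : orderOf x = r) (hr5 : 5 ≤ r)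
    (hr' : Module.finrank (ZMod q) V < r) {s : ℕ} [hs : Fact s.Prime] (S : Subgroup G) [hSn : S.Normal]
    (hS : IsPGroup s S) : ∀ b ∈ S, x * b = b * x := by
  classical
  have hconj : ∀ b : S, x * (b : G) * x⁻¹ ∈ S := fun b => hSn.conj_mem b b.2 x
  rcases pgroup_cases hfree S hS with hc | ⟨rfl, n, hn, ⟨e⟩⟩
  · obtain ⟨y, hy⟩ := hc.exists_generator
    have hxy : x * (y : G) = y * x := fix_cyclic hfree hx hr' (by
      obtain ⟨k, hk⟩ := Subgroup.mem_zpowers_iff.mp (hy ⟨_, hconj y⟩)
      exact Subgroup.mem_zpowers_iff.mpr ⟨k, by simpa using congrArg Subtype.val hk⟩)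
    intro b hb
    obtain ⟨k, hk⟩ := Subgroup.mem_zpowers_iff.mp (hy ⟨b, hb⟩)
    have hk' : (y : G) ^ k = b := by simpa using congrArg Subtype.val hk
    rw [← hk']
    exact ((show Commute x (y : G) from hxy).zpow_right k).eq
  -- a generator of a cyclic subgroup of index two that `x` normalises
  haveI : NeZero (2 ^ n) := ⟨by positivity⟩
  obtain ⟨y, hy, hidx⟩ : ∃ y : S, x * (y : G) * x⁻¹ ∈ Subgroup.zpowers (y : G) ∧ orderOf y = 2 * 2 ^ n := by
    by_cases hn1 : n = 1
    · subst hn1
      let T := {b : S // orderOf b = 4}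
      have hT6 : Nat.card T = 6 := by
        rw [Nat.card_congr (e.toEquiv.subtypeEquiv (q := fun c => orderOf c = 4) fun b => by
          rw [MulEquiv.toEquiv_eq_coe, EquivLike.coe_coe, MulEquiv.orderOf_eq])]
        exact q8_four
      let σ : Equiv.Perm T :=
        { toFun := fun b => ⟨⟨x * ((b : S) : G) * x⁻¹, hconj b⟩, by
            rw [← Subgroup.orderOf_coe]
            change orderOf (MulAut.conj x ((b : S) : G)) = 4
            rw [MulEquiv.orderOf_eq, Subgroup.orderOf_coe, b.2]⟩
          invFun := fun b => ⟨⟨x⁻¹ * ((b : S) : G) * (x⁻¹)⁻¹, hSn.conj_mem _ (b : S).2 x⁻¹⟩, by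
            rw [← Subgroup.orderOf_coe]
            change orderOf (MulAut.conj x⁻¹ ((b : S) : G)) = 4
            rw [MulEquiv.orderOf_eq, Subgroup.orderOf_coe, b.2]⟩
          left_inv := fun b => Subtype.ext (Subtype.ext (by simp [mul_assoc]))
          right_inv := fun b => Subtype.ext (Subtype.ext (by simp [mul_assoc])) }
      have hσ : ∀ (k : ℕ) (b : T), (((σ ^ k) b : S) : G) = x ^ k * (b : S) * (x ^ k)⁻¹ := fun k => by
        induction k with
        | zero => intro b; simp
        | succ k ih =>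
          intro b
          rw [pow_succ, Equiv.Perm.mul_apply, ih]
          change x ^ k * (x * (b : S) * x⁻¹) * (x ^ k)⁻¹ = _
          rw [pow_succ]; group
      by_contra hno
      push Not at hno
      have hfix : ∀ b : T, σ b ≠ b := fun b hb => by
        refine absurd b.2 ?_
        have := hno b (by
          rw [show x * ((b : S) : G) * x⁻¹ = ((b : S) : G) from congrArg (fun c : T => ((c : S) : G)) hb]
          exact Subgroup.mem_zpowers _)
        simpa using this
      haveI : Fintype T := Fintype.ofFinite T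
      have hσr : σ ^ r = 1 := Equiv.ext fun b => Subtype.ext (Subtype.ext (by
        rw [hσ, ← hx, pow_orderOf_eq_one]; simp))
      have hσ1 : σ ≠ 1 := fun h1 => by
        haveI : Nonempty T := (Nat.card_ne_zero.mp (by rw [hT6]; norm_num)).1
        obtain ⟨b⟩ := (inferInstance : Nonempty T)
        exact hfix b (by rw [h1]; rfl)
      obtain ⟨m, hm⟩ := Equiv.Perm.cycleType_prime_order (σ := σ) (by rw [orderOf_eq_prime hσr hσ1]; exact hr.out)
      rw [orderOf_eq_prime hσr hσ1] at hm
      have hsum := Equiv.Perm.sum_cycleType (σ := σ)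
      have hsupp : σ.support = Finset.univ := Finset.eq_univ_of_forall fun b => Equiv.Perm.mem_support.mpr (hfix b)
      rw [hm, Multiset.sum_replicate, smul_eq_mul, hsupp, Finset.card_univ, ← Nat.card_eq_fintype_card, hT6] at hsum
      have : r ∣ 6 := ⟨m + 1, by rw [← hsum]; ring⟩
      have h6 := Nat.le_of_dvd (by norm_num) this
      interval_cases r <;> first | omega | exact absurd hr.out (by norm_num)
    · refine ⟨e.symm (QuaternionGroup.a 1), ?_, by rw [MulEquiv.orderOf_eq, QuaternionGroup.orderOf_a_one]⟩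
      have hord : orderOf (e ⟨_, hconj (e.symm (QuaternionGroup.a 1))⟩) = 2 * 2 ^ n := by
        rw [MulEquiv.orderOf_eq, Subgroup.orderOf_mk]
        change orderOf (MulAut.conj x ((e.symm (QuaternionGroup.a 1) : S) : G)) = _
        rw [MulEquiv.orderOf_eq, Subgroup.orderOf_coe, MulEquiv.orderOf_eq, QuaternionGroup.orderOf_a_one]
      cases hc : e ⟨_, hconj (e.symm (QuaternionGroup.a 1))⟩ with
      | xa i =>
        rw [hc, QuaternionGroup.orderOf_xa] at hord
        exfalso
        have : 2 ^ 2 ≤ 2 ^ n := Nat.pow_le_pow_right (by norm_num) (by omega)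
        omega
      | a i =>
        rw [show (QuaternionGroup.a i : QuaternionGroup (2 ^ n)) = QuaternionGroup.a 1 ^ i.val by
          rw [QuaternionGroup.a_one_pow, ZMod.natCast_zmod_val]] at hc
        refine Subgroup.mem_zpowers_iff.mpr ⟨i.val, ?_⟩
        have h' := congrArg (fun c => ((e.symm c : S) : G)) hc
        simp only [MulEquiv.symm_apply_apply, map_pow, Subgroup.coe_pow] at h'
        rw [zpow_natCast]
        exact h'.symm
  have hxy : x * (y : G) = y * x := fix_cyclic hfree hx hr' hy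
  have hxz : ∀ c ∈ Subgroup.zpowers y, x * (c : G) = c * x := fun c hc => by
    obtain ⟨k, rfl⟩ := Subgroup.mem_zpowers_iff.mp hc
    rw [Subgroup.coe_zpow]
    exact ((show Commute x (y : G) from hxy).zpow_right k).eq
  have hi2 : (Subgroup.zpowers y).index = 2 := by
    have h := (Subgroup.zpowers y).card_mul_index
    rw [Nat.card_zpowers, hidx, Nat.card_congr e.toEquiv, Nat.card_eq_fintype_card, QuaternionGroup.card] at h
    have : 0 < 2 ^ n := by positivity
    nlinarith
  intro b hb
  by_cases hbC : (⟨b, hb⟩ : S) ∈ Subgroup.zpowers y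
  · exact hxz ⟨b, hb⟩ hbC
  let b' : S := ⟨x * b * x⁻¹, hconj ⟨b, hb⟩⟩
  have hb'C : b' ∉ Subgroup.zpowers y := fun h => by
    refine hbC ?_
    have e1 := hxz b' h
    have e2 : b' = (⟨b, hb⟩ : S) := Subtype.ext (by
      change x * b * x⁻¹ = b
      calc x * b * x⁻¹ = x⁻¹ * (x * (x * b * x⁻¹)) := by group
        _ = x⁻¹ * ((x * b * x⁻¹) * x) := by rw [show x * (x * b * x⁻¹) = (x * b * x⁻¹) * x from e1]
        _ = b := by group)
    rwa [e2] at h
  have hcC : (⟨b, hb⟩ : S)⁻¹ * b' ∈ Subgroup.zpowers y :=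
    (Subgroup.mul_mem_iff_of_index_two hi2).mpr (by rw [inv_mem_iff]; exact iff_of_false hbC hb'C)
  obtain ⟨c, hc⟩ : ∃ c : S, c = (⟨b, hb⟩ : S)⁻¹ * b' := ⟨_, rfl⟩
  rw [← hc] at hcC
  have hcv : x * b * x⁻¹ = b * (c : G) := by
    rw [hc]; change x * b * x⁻¹ = b * (b⁻¹ * (x * b * x⁻¹)); group
  have hk : ∀ k : ℕ, x ^ k * b * (x ^ k)⁻¹ = b * (c : G) ^ k := fun k => by
    induction k with
    | zero => simp
    | succ k ih =>
      calc x ^ (k + 1) * b * (x ^ (k + 1))⁻¹ = x * (x ^ k * b * (x ^ k)⁻¹) * x⁻¹ := by rw [pow_succ']; group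
        _ = x * (b * (c : G) ^ k) * x⁻¹ := by rw [ih]
        _ = (x * b * x⁻¹) * (x * (c : G) * x⁻¹) ^ k := by rw [conj_pow]; group
        _ = b * (c : G) ^ (k + 1) := by
          rw [hcv, hxz c hcC, mul_inv_cancel_right, pow_succ', mul_assoc]
  have hcr := hk r
  rw [← hx, pow_orderOf_eq_one, one_mul, inv_one, mul_one, hx, left_eq_mul] at hcr
  obtain ⟨j, hj⟩ := hS c
  have hc1 : (c : G) = 1 := orderOf_eq_one_iff.mp (Nat.eq_one_of_dvd_coprimes
    ((Nat.coprime_primes hr.out Nat.prime_two).mpr (by omega) |>.pow_right j) (orderOf_dvd_of_pow_eq_one hcr)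
    (orderOf_dvd_of_pow_eq_one (by simpa using congrArg Subtype.val hj)))
  rw [hc1, mul_one] at hcv
  exact mul_inv_eq_iff_eq_mul.mp hcv

/-- A primitive prime divisor at least five forces a semilinear group. -/
theorem semi_of_primitive [Group.IsSolvable G] {r : ℕ} (hr : r.Prime) (hr5 : 5 ≤ r)
    (hr' : Module.finrank (ZMod q) V < r) (hrG : r ∣ Nat.card G)
    (hprim : ∀ i, 1 ≤ i → i < Module.finrank (ZMod q) V → ¬ r ∣ q ^ i - 1) : Semi ρ := by
  haveI := Fact.mk hr
  obtain ⟨x, hx⟩ := exists_prime_orderOf_dvd_card' r hrG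
  let F := Cfsg.fittingSubgroup G
  have hF : F ≤ Subgroup.centralizer ({x} : Set G) := by
    change Cfsg.fittingSubgroup G ≤ _
    rw [CfsgLib.fittingSubgroup_eq_iSup_pCore]
    refine iSup_le fun s => fun b hb => Subgroup.mem_centralizer_singleton_iff.mpr ?_
    haveI : Fact (s : ℕ).Prime := ⟨s.2⟩
    exact (centralizes hfree hx hr5 hr' (Cfsg.pCore (s : ℕ) G) (CfsgLib.isPGroup_pCore _) b hb).symm
  let A := Subgroup.centralizer (F : Set G)
  haveI : F.Normal := by
    change (Cfsg.fittingSubgroup G).Normal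
    infer_instance
  have hAF : A ≤ F := CfsgLib.centralizer_fitting_le
  have hA : ∀ a ∈ A, ∀ b ∈ A, a * b = b * a := fun a ha b hb =>
    (Subgroup.mem_centralizer_iff.mp ha b (hAF hb)).symm
  have hxA : x ∈ A := Subgroup.mem_centralizer_iff.mpr fun b hb => Subgroup.mem_centralizer_singleton_iff.mp (hF hb)
  refine semi_of_dvd hfree A hA fun i hi hin hd => hprim i hi hin (dvd_trans ?_ hd)
  exact hx ▸ Subgroup.orderOf_dvd_natCard A hxA

end CfsgLib.RegularLinear
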