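import Mathlib
import Cfsg.Agent.Lib.RegularLinear.Structure
import Cfsg.Agent.Lib.QuaternionSection

/-!
Solvable groups acting regularly on the non-zero vectors: the two-dimensional case.
-/

set_option autoImplicit false
set_option linter.unusedSectionVars false

namespace CfsgLib.RegularLinear

open Polynomial

theorem fitting_comm {G : Type*} [Group G] [Finite G]
    (h : ∀ s : Nat.Primes, ∀ a ∈ Cfsg.pCore (s : ℕ) G, ∀ b ∈ Cfsg.pCore (s : ℕ) G, a * b = b * a) :
    ∀ a ∈ Cfsg.fittingSubgroup G, ∀ b ∈ Cfsg.fittingSubgroup G, a * b = b * a := by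
  have h1 : ∀ s : Nat.Primes, Cfsg.fittingSubgroup G ≤ Subgroup.centralizer (Cfsg.pCore (s : ℕ) G : Set G) := by
    intro s
    rw [CfsgLib.fittingSubgroup_eq_iSup_pCore]
    refine iSup_le fun t => fun b hb => Subgroup.mem_centralizer_iff.mpr fun a ha => ?_
    by_cases hst : s = t
    · subst hst; exact h s a ha b hb
    · haveI : Fact (s : ℕ).Prime := ⟨s.2⟩
      haveI : Fact (t : ℕ).Prime := ⟨t.2⟩
      exact (Subgroup.commute_of_normal_of_disjoint _ _ inferInstance inferInstance
        (IsPGroup.disjoint_of_ne (s : ℕ) (t : ℕ) (fun e => hst (Subtype.ext e)) _ _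
          (CfsgLib.isPGroup_pCore _) (CfsgLib.isPGroup_pCore _)) a b ha hb).eq
  intro a ha b hb
  have h2 : Cfsg.fittingSubgroup G ≤ Subgroup.centralizer (Cfsg.fittingSubgroup G : Set G) := by
    nth_rw 1 [CfsgLib.fittingSubgroup_eq_iSup_pCore]
    exact iSup_le fun s => Subgroup.le_centralizer_iff.mp (h1 s)
  exact Subgroup.mem_centralizer_iff.mp (h2 hb) a ha

theorem q8_center_card : Nat.card {c : QuaternionGroup 2 // ∀ d, d * c = c * d} = 2 := by
  rw [Nat.card_eq_fintype_card]; decide +kernel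

variable {q : ℕ} [hq : Fact q.Prime] {V : Type*} [AddCommGroup V] [Module (ZMod q) V] [Finite V] [Nontrivial V]
  {G : Type*} [Group G] [Finite G] {ρ : G →* (V ≃ₗ[ZMod q] V)}
  (hfree : ∀ (g : G) (v : V), v ≠ 0 → ρ g v = v → g = 1)
include hfree

theorem card_eq (htrans : ∀ v w : V, v ≠ 0 → w ≠ 0 → ∃ g : G, ρ g v = w) :
    Nat.card G = q ^ Module.finrank (ZMod q) V - 1 := by
  classical
  obtain ⟨v₀, hv₀⟩ := exists_ne (0 : V)
  let f : G → {v : V // v ≠ 0} := fun g => ⟨ρ g v₀, fun h => hv₀ ((ρ g).map_eq_zero_iff.mp h)⟩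
  have hf : Function.Bijective f := by
    refine ⟨fun g g' e => ?_, fun w => ?_⟩
    · have e' : ρ g v₀ = ρ g' v₀ := congrArg Subtype.val e
      refine (inv_mul_eq_one.mp (hfree (g⁻¹ * g') v₀ hv₀ ?_))
      rw [map_mul, LinearEquiv.mul_apply, ← e', ← LinearEquiv.mul_apply, ← map_mul, inv_mul_cancel, map_one]
      rfl
    · obtain ⟨g, hg⟩ := htrans v₀ w hv₀ w.2
      exact ⟨g, Subtype.ext hg⟩
  haveI : Fintype V := Fintype.ofFinite V
  rw [Nat.card_eq_of_bijective f hf, Nat.card_eq_fintype_card, Fintype.card_subtype_compl, Fintype.card_subtype_eq,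
    ← Nat.card_eq_fintype_card, Module.natCard_eq_pow_finrank (K := ZMod q), Nat.card_zmod]

/-- A normal abelian subgroup of order dividing `q - 1` acts by scalars. -/
theorem central_of_small (htrans : ∀ v w : V, v ≠ 0 → w ≠ 0 → ∃ g : G, ρ g v = w) {A : Subgroup G} [hAn : A.Normal]
    (hA : ∀ a ∈ A, ∀ b ∈ A, a * b = b * a) (hd : Nat.card A ∣ q - 1) : A ≤ Subgroup.center G := by
  classical
  intro a ha
  let T : Module.End (ZMod q) V := (ρ a).toLinearMap
  have hTp : ∀ (j : ℕ) (v : V), (T ^ j) v = ρ (a ^ j) v := fun j => by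
    induction j with
    | zero => intro v; rw [pow_zero, pow_zero, map_one]; rfl
    | succ j ih =>
      intro v
      rw [pow_succ, pow_succ, map_mul, Module.End.mul_apply, ih]
      rfl
  have haq : a ^ q = a := by
    have h1 : a ^ (q - 1) = 1 := orderOf_dvd_iff_pow_eq_one.mp ((Subgroup.orderOf_dvd_natCard A ha).trans hd)
    conv_lhs => rw [show q = q - 1 + 1 from (Nat.succ_pred_eq_of_pos hq.out.pos).symm, pow_succ, h1, one_mul]
  have hint : IsIntegral (ZMod q) T := Algebra.IsIntegral.isIntegral T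
  have hf0 : (X ^ q - X : (ZMod q)[X]) ≠ 0 := FiniteField.X_pow_card_sub_X_ne_zero _ hq.out.one_lt
  have hμd : minpoly (ZMod q) T ∣ X ^ q - X := minpoly.dvd _ _ (by
    rw [map_sub, map_pow, aeval_X, sub_eq_zero]
    refine LinearMap.ext fun v => ?_
    rw [hTp, haq]; rfl)
  have hsplit : (X ^ q - X : (ZMod q)[X]).Splits := by
    have h := FiniteField.roots_X_pow_card_sub_X (ZMod q)
    rw [ZMod.card] at h
    rw [Polynomial.splits_iff_card_roots, h, FiniteField.X_pow_card_sub_X_natDegree_eq _ hq.out.one_lt,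
      Finset.card_val, Finset.card_univ, ZMod.card]
  obtain ⟨c, hc⟩ := (hsplit.of_dvd hf0 hμd).exists_eval_eq_zero (minpoly.degree_pos hint).ne'
  obtain ⟨v, hv⟩ := (Module.End.hasEigenvalue_of_isRoot hc).exists_hasEigenvector
  have hv1 : ρ a v = c • v := hv.apply_eq_smul
  have hv0 : v ≠ 0 := hv.2
  have hev : ∀ w : V, w ≠ 0 → ∃ d : ZMod q, ρ a w = d • w := by
    intro w hw
    obtain ⟨g, rfl⟩ := htrans v w hv0 hw
    haveI : IsCyclic A := cyclic_of_comm hfree hA
    obtain ⟨m, hm⟩ := ((MulAut.conjNormal g⁻¹ : MulAut A).toMonoidHom).map_cyclic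
    have hm' : g⁻¹ * a * g = a ^ m := by
      have := congrArg Subtype.val (hm ⟨a, ha⟩)
      simpa [MulAut.conjNormal_apply] using this
    obtain ⟨k, -, hk⟩ := Finset.mem_image.mp
      (mem_zpowers_iff_mem_range_orderOf.mp (Subgroup.zpow_mem _ (Subgroup.mem_zpowers a) m))
    obtain ⟨d, hd'⟩ : ∃ d : ZMod q, ρ (g⁻¹ * a * g) v = d • v :=
      ⟨c ^ k, by rw [hm', ← hk, ← hTp]; exact hv.pow_apply k⟩
    refine ⟨d, ?_⟩
    rw [show ρ a (ρ g v) = ρ g (ρ (g⁻¹ * a * g) v) by
      rw [← LinearEquiv.mul_apply, ← LinearEquiv.mul_apply, ← map_mul, ← map_mul]; congr 2; group, hd', map_smul]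
  have hscal : ∀ w : V, ρ a w = c • w := by
    intro w
    by_cases hw : w = 0
    · simp [hw]
    obtain ⟨c', hc'⟩ := hev w hw
    by_cases hsp : ∃ t : ZMod q, t • v = w
    · obtain ⟨t, rfl⟩ := hsp
      rw [map_smul, hv1, smul_comm]
    push Not at hsp
    have hvw : v + w ≠ 0 := fun e => hsp (-1) (by rw [neg_one_smul]; exact neg_eq_of_add_eq_zero_right e)
    obtain ⟨d, hd'⟩ := hev _ hvw
    rw [map_add, hv1, hc', smul_add] at hd'
    have h0 : (c' - d) • w = (d - c) • v := by
      rw [sub_smul, sub_smul, sub_eq_sub_iff_add_eq_add, add_comm, hd', add_comm]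
    have h1 : c' = d := by
      by_contra hne
      refine hsp ((c' - d)⁻¹ * (d - c)) ?_
      rw [mul_smul, ← h0, smul_smul, inv_mul_cancel₀ (sub_ne_zero.mpr hne), one_smul]
    rw [h1, sub_self, zero_smul] at h0
    rcases smul_eq_zero.mp h0.symm with h | h
    · rw [hc', h1, sub_eq_zero.mp h]
    · exact absurd h hv0
  refine Subgroup.mem_center_iff.mpr fun g => injective hfree ?_
  refine LinearEquiv.ext fun w => ?_
  rw [map_mul, map_mul, LinearEquiv.mul_apply, LinearEquiv.mul_apply, hscal, hscal, map_smul]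

/-- In dimension two, without a large abelian normal subgroup, the Fitting subgroup is `Q₈` times scalars. -/
theorem q8_case [Group.IsSolvable G] (htrans : ∀ v w : V, v ≠ 0 → w ≠ 0 → ∃ g : G, ρ g v = w)
    (hn : Module.finrank (ZMod q) V = 2)
    (hsmall : ∀ A : Subgroup G, A.Normal → (∀ a ∈ A, ∀ b ∈ A, a * b = b * a) → Nat.card A ∣ q - 1) :
    ∃ Q : Subgroup G, Q.Normal ∧ Nonempty (Q ≃* QuaternionGroup 2) ∧
      Subgroup.centralizer (Q : Set G) = Subgroup.center G := by
  classical
  have hcen : ∀ A : Subgroup G, A.Normal → (∀ a ∈ A, ∀ b ∈ A, a * b = b * a) → A ≤ Subgroup.center G :=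
    fun A hA hc => @central_of_small _ _ _ _ _ _ _ _ _ _ _ hfree htrans A hA hc (hsmall A hA hc)
  have hcomm : ∀ (s : Nat.Primes), IsCyclic (Cfsg.pCore (s : ℕ) G) → Cfsg.pCore (s : ℕ) G ≤ Subgroup.center G := by
    intro s hs
    refine hcen _ inferInstance fun a ha b hb => ?_
    exact congrArg Subtype.val ((IsCyclic.isMulCommutative (α := Cfsg.pCore (s : ℕ) G)).is_comm.comm ⟨a, ha⟩ ⟨b, hb⟩)
  have hodd : ∀ s : Nat.Primes, (s : ℕ) ≠ 2 → Cfsg.pCore (s : ℕ) G ≤ Subgroup.center G := fun s hs => by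
    haveI : Fact (s : ℕ).Prime := ⟨s.2⟩
    rcases pgroup_cases hfree _ (CfsgLib.isPGroup_pCore (s : ℕ) (G := G)) with h | ⟨h, -⟩
    · exact hcomm s h
    · exact absurd h hs
  rcases pgroup_cases hfree _ (CfsgLib.isPGroup_pCore 2 (G := G)) with h | ⟨-, m, hm, ⟨e⟩⟩
  · exfalso
    have hall : ∀ s : Nat.Primes, Cfsg.pCore (s : ℕ) G ≤ Subgroup.center G := fun s => by
      by_cases hs : (s : ℕ) = 2
      · exact hcomm s (by rw [hs]; exact h)
      · exact hodd s hs
    have hF : Cfsg.fittingSubgroup G ≤ Subgroup.center G := by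
      rw [CfsgLib.fittingSubgroup_eq_iSup_pCore]
      exact iSup_le hall
    have htop : ∀ a : G, a ∈ Subgroup.center G := fun a =>
      hF (CfsgLib.centralizer_fitting_le (Subgroup.mem_centralizer_iff.mpr fun b hb =>
        (Subgroup.mem_center_iff.mp (hF hb) a).symm))
    have hd := hsmall ⊤ inferInstance fun a _ b _ => Subgroup.mem_center_iff.mp (htop b) a
    rw [Subgroup.card_top, card_eq hfree htrans, hn] at hd
    have h2 := hq.out.two_le
    have h3 := Nat.le_of_dvd (by omega) hd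
    have : q * 2 ≤ q ^ 2 := by rw [pow_two]; exact Nat.mul_le_mul_left q h2
    omega
  · set Q := Cfsg.pCore 2 G with hQ
    haveI : Q.Normal := by rw [hQ]; infer_instance
    have hm1 : m = 1 := by
      by_contra hm1
      haveI : NeZero (2 ^ m) := ⟨by positivity⟩
      have h4 : 2 ^ 2 ≤ 2 ^ m := Nat.pow_le_pow_right (by norm_num) (by omega)
      let y : G := ((e.symm (QuaternionGroup.a 1) : Q) : G)
      have hyo : orderOf y = 2 * 2 ^ m := by
        rw [Subgroup.orderOf_coe, MulEquiv.orderOf_eq, QuaternionGroup.orderOf_a_one]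
      have hyn : (Subgroup.zpowers y).Normal := by
        constructor
        intro b hb g
        obtain ⟨k, rfl⟩ := Subgroup.mem_zpowers_iff.mp hb
        rw [← conj_zpow]
        refine Subgroup.zpow_mem _ ?_ k
        have hmem : g * y * g⁻¹ ∈ Q := Subgroup.Normal.conj_mem inferInstance y (SetLike.coe_mem _) g
        have hord : orderOf (e ⟨_, hmem⟩) = 2 * 2 ^ m := by
          rw [MulEquiv.orderOf_eq, Subgroup.orderOf_mk]
          change orderOf (MulAut.conj g y) = _
          rw [MulEquiv.orderOf_eq, hyo]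
        cases hc : e ⟨_, hmem⟩ with
        | xa i => rw [hc, QuaternionGroup.orderOf_xa] at hord; omega
        | a i =>
          rw [show (QuaternionGroup.a i : QuaternionGroup (2 ^ m)) = QuaternionGroup.a 1 ^ i.val by
            rw [QuaternionGroup.a_one_pow, ZMod.natCast_zmod_val]] at hc
          refine Subgroup.mem_zpowers_iff.mpr ⟨i.val, ?_⟩
          have h' := congrArg (fun c => ((e.symm c : Q) : G)) hc
          simp only [MulEquiv.symm_apply_apply, map_pow, Subgroup.coe_pow] at h'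
          rw [zpow_natCast]
          exact h'.symm
      have hyc := hcen _ hyn (fun a ha b hb => by
        obtain ⟨i, rfl⟩ := Subgroup.mem_zpowers_iff.mp ha
        obtain ⟨j, rfl⟩ := Subgroup.mem_zpowers_iff.mp hb
        rw [← zpow_add, ← zpow_add, add_comm]) (Subgroup.mem_zpowers y)
      let b : Q := e.symm (QuaternionGroup.xa 0)
      have hb' : e.symm (QuaternionGroup.a 1) * b = b * e.symm (QuaternionGroup.a 1) :=
        Subtype.ext (Subgroup.mem_center_iff.mp hyc b).symm
      have h5 := congrArg e hb'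
      simp only [b, map_mul, MulEquiv.apply_symm_apply, QuaternionGroup.a_mul_xa, QuaternionGroup.xa_mul_a,
        QuaternionGroup.xa.injEq] at h5
      have h6 : ((2 : ℕ) : ZMod (2 * 2 ^ m)) = 0 := by push_cast; linear_combination -h5
      rw [ZMod.natCast_eq_zero_iff] at h6
      have := Nat.le_of_dvd (by norm_num) h6
      omega
    subst hm1
    refine ⟨Q, inferInstance, ⟨e⟩, le_antisymm ?_ (Subgroup.center_le_centralizer _)⟩
    have h1 : Subgroup.centralizer (Q : Set G) ≤ Subgroup.centralizer (Cfsg.fittingSubgroup G : Set G) := by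
      refine Subgroup.le_centralizer_iff.mp ?_
      rw [CfsgLib.fittingSubgroup_eq_iSup_pCore]
      refine iSup_le fun s => ?_
      by_cases hs : (s : ℕ) = 2
      · rw [hs]; exact Subgroup.le_centralizer_iff.mp le_rfl
      · exact (hodd s hs).trans (Subgroup.center_le_centralizer _)
    refine hcen _ inferInstance fun a ha b hb => ?_
    exact (Subgroup.mem_centralizer_iff.mp (h1 ha) b (CfsgLib.centralizer_fitting_le (h1 hb))).symm

end CfsgLib.RegularLinear
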