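import Mathlib
import Cfsg.Agent.Lib.RegularLinear.Regular
import Cfsg.Agent.S2904

/-!
Solvable groups acting regularly on the non-zero vectors: assembling the classification.
-/

set_option autoImplicit false
set_option linter.unusedSectionVars false

namespace CfsgLib.RegularLinear

open CfsgLib.QuatSection

theorem ker_conjNormal {G : Type*} [Group G] (H : Subgroup G) [H.Normal] :
    (MulAut.conjNormal (H := H)).ker = Subgroup.centralizer (H : Set G) := by
  ext g
  rw [MonoidHom.mem_ker, Subgroup.mem_centralizer_iff]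
  constructor
  · intro h b hb
    have := congrArg Subtype.val (MulEquiv.congr_fun h ⟨b, hb⟩)
    simp only [MulAut.conjNormal_apply, MulAut.one_apply] at this
    exact (mul_inv_eq_iff_eq_mul.mp this).symm
  · intro h
    refine MulEquiv.ext fun b => Subtype.ext ?_
    rw [MulAut.conjNormal_apply, MulAut.one_apply, mul_inv_eq_iff_eq_mul]
    exact (h b b.2).symm

theorem index_two_of_six {G : Type*} [Group G] [Finite G] (K : Subgroup G) [K.Normal] (h : K.index = 6) :
    ∃ N : Subgroup G, N.Normal ∧ N.index = 2 := by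
  haveI := Fact.mk Nat.prime_three
  obtain ⟨x, hx⟩ := exists_prime_orderOf_dvd_card' (G := G ⧸ K) 3 (by
    rw [← Subgroup.index_eq_card, h]; norm_num)
  have hx2 : (Subgroup.zpowers x).index = 2 := by
    have := (Subgroup.zpowers x).card_mul_index
    rw [Nat.card_zpowers, hx, ← Subgroup.index_eq_card, h] at this
    omega
  have hN : ((Subgroup.zpowers x).comap (QuotientGroup.mk' K)).index = 2 := by
    rw [Subgroup.index_comap_of_surjective _ (QuotientGroup.mk'_surjective K), hx2]
  exact ⟨_, Subgroup.normal_of_index_eq_two hN, hN⟩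

theorem sl23_card : Nat.card SL23 = 24 := by
  rw [← Nat.card_eq_of_bijective _ slMap_bijective, Nat.card_prod, Nat.card_zmod, Nat.card_eq_fintype_card,
    QuaternionGroup.card]

/-- A quaternion normal subgroup with a non-trivially acting element of order three gives `SL(2,3)`. -/
theorem exists_sl23 {G : Type*} [Group G] [Finite G] {Q : Subgroup G} [Q.Normal] (e : Q ≃* QuaternionGroup 2)
    {y : G} (hy : orderOf y = 3) (hyC : y ∉ Subgroup.centralizer (Q : Set G)) :
    ∃ f : SL23 →* G, Function.Injective f := by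
  obtain ⟨φ, hinj, hrange, hrot⟩ := exists_param e (g := y) (by
    rw [Subgroup.normalizer_eq_top]; exact Subgroup.mem_top y) hyC (by rw [hy]; decide)
  have hiter : ∀ (t : ℕ) (u : QuaternionGroup 2), y ^ t * φ u * (y ^ t)⁻¹ = φ (CfsgLib.Quat.rotFun^[t] u) := by
    intro t
    induction t with
    | zero => intro u; simp
    | succ t ih =>
      intro u
      rw [Function.iterate_succ_apply', ← hrot, ← ih, pow_succ']
      group
  let E : QuaternionGroup 2 × ZMod 3 ≃ SL23 := Equiv.ofBijective _ slMap_bijective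
  let F : QuaternionGroup 2 × ZMod 3 → G := fun u => φ u.1 * y ^ u.2.val
  have hy3 : y ^ 3 = 1 := hy ▸ pow_orderOf_eq_one y
  have hmul : ∀ a b, F (E.symm (a * b)) = F (E.symm a) * F (E.symm b) := by
    intro a b
    obtain ⟨⟨u, t⟩, rfl⟩ := E.surjective a
    obtain ⟨⟨u', t'⟩, rfl⟩ := E.surjective b
    have h : E (u, t) * E (u', t') = E (u * CfsgLib.Quat.rotFun^[t.val] u', t + t') := slMap_mul u u' t t'
    rw [h, Equiv.symm_apply_apply, Equiv.symm_apply_apply, Equiv.symm_apply_apply]
    change φ (u * CfsgLib.Quat.rotFun^[t.val] u') * y ^ (t + t').val = φ u * y ^ t.val * (φ u' * y ^ t'.val)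
    rw [map_mul, ← hiter, show y ^ (t + t').val = y ^ (t.val + t'.val) by
      rw [ZMod.val_add]; exact (pow_eq_pow_mod _ hy3).symm, pow_add]
    group
  refine ⟨MonoidHom.mk' (fun s => F (E.symm s)) hmul, (injective_iff_map_eq_one _).mpr fun s hs => ?_⟩
  obtain ⟨⟨u, t⟩, rfl⟩ := E.surjective s
  change F (E.symm (E (u, t))) = 1 at hs
  rw [Equiv.symm_apply_apply] at hs
  change φ u * y ^ t.val = 1 at hs
  have hyt : y ^ t.val ∈ Q := by
    rw [← hrange]; exact ⟨u⁻¹, by rw [map_inv]; exact inv_eq_of_mul_eq_one_right hs⟩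
  have h8 : (y ^ t.val) ^ 8 = 1 := by
    have h := orderOf_dvd_natCard (⟨_, hyt⟩ : Q)
    rw [Subgroup.orderOf_mk, Nat.card_congr e.toEquiv, Nat.card_eq_fintype_card, QuaternionGroup.card] at h
    exact orderOf_dvd_iff_pow_eq_one.mp h
  rw [← pow_mul] at h8
  have h9 := orderOf_dvd_of_pow_eq_one h8
  rw [hy] at h9
  have ht : t = 0 := by
    have := t.val_lt
    refine (ZMod.val_eq_zero t).mp ?_
    omega
  subst ht
  rw [ZMod.val_zero, pow_zero, mul_one] at hs
  have hu : u = 1 := hinj (by rw [hs, map_one])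
  subst hu
  change slMap 1 0 = 1
  decide +kernel

variable {q : ℕ} [hq : Fact q.Prime] {V : Type*} [AddCommGroup V] [Module (ZMod q) V] [Finite V] [Nontrivial V]
  {G : Type*} [Group G] [Finite G] {ρ : G →* (V ≃ₗ[ZMod q] V)}
  (hfree : ∀ (g : G) (v : V), v ≠ 0 → ρ g v = v → g = 1)
  (htrans : ∀ v w : V, v ≠ 0 → w ≠ 0 → ∃ g : G, ρ g v = w)
include hfree htrans

/-- A semilinear regular group in odd characteristic has a subgroup of index two. -/
theorem index_two_of_semi (hS : Semi ρ) (hq2 : q ≠ 2) : ∃ N : Subgroup G, N.Normal ∧ N.index = 2 := by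
  classical
  obtain ⟨F, hF, hFF, e, he⟩ := hS
  choose a σ ha using he
  have hcard : Fintype.card F = q ^ Module.finrank (ZMod q) V := by
    rw [← Nat.card_eq_fintype_card, ← Nat.card_congr e.toEquiv, Module.natCard_eq_pow_finrank (K := ZMod q),
      Nat.card_zmod]
  have hoddF : Fintype.card F % 2 = 1 := by
    rw [hcard]; exact Nat.odd_iff.mp ((hq.out.odd_of_ne_two hq2).pow)
  have hchar : ringChar F ≠ 2 := fun h => by
    have := FiniteField.even_card_iff_char_two.mp h
    omega
  set v₁ := e.symm (1 : F) with hv₁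
  have hv₁0 : v₁ ≠ 0 := fun h => one_ne_zero (α := F) (by
    rw [← e.apply_symm_apply (1 : F), ← hv₁, h, map_zero])
  have hav : ∀ g, e (ρ g v₁) = a g := fun g => by
    rw [ha g v₁, hv₁, AddEquiv.apply_symm_apply, map_one, mul_one]
  have ha0 : ∀ g, a g ≠ 0 := fun g h => by
    rw [← hav, AddEquiv.map_eq_zero_iff, LinearEquiv.map_eq_zero_iff] at h
    exact hv₁0 h
  have hmul : ∀ g h, a (g * h) = a g * σ g (a h) := fun g h => by
    rw [← hav, map_mul, LinearEquiv.mul_apply, ha g, hav]
  let m := Fintype.card F / 2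
  have hχ : ∀ g, a g ^ m = 1 ∨ a g ^ m = -1 := fun g => FiniteField.pow_dichotomy hchar (ha0 g)
  have hχmul : ∀ g h, a (g * h) ^ m = a g ^ m * a h ^ m := fun g h => by
    rw [hmul, mul_pow, ← map_pow]
    rcases hχ h with e' | e' <;> rw [e'] <;> simp
  have h11 : (-1 : F) ≠ 1 := Ring.neg_one_ne_one_of_char_ne_two hchar
  let N : Subgroup G :=
    { carrier := {g | a g ^ m = 1}
      one_mem' := by
        change a 1 ^ m = 1
        rw [← hav, map_one]
        change e v₁ ^ m = 1
        rw [hv₁, AddEquiv.apply_symm_apply, one_pow]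
      mul_mem' := fun {g h} hg hh => by
        change a (g * h) ^ m = 1
        rw [hχmul, show a g ^ m = 1 from hg, show a h ^ m = 1 from hh, one_mul]
      inv_mem' := fun {g} hg => by
        change a g⁻¹ ^ m = 1
        have := hχmul g g⁻¹
        rw [mul_inv_cancel, show a g ^ m = 1 from hg, one_mul] at this
        rw [← this, ← hav, map_one]
        change e v₁ ^ m = 1
        rw [hv₁, AddEquiv.apply_symm_apply, one_pow] }
  obtain ⟨b, hb⟩ := FiniteField.exists_nonsquare hchar
  have hb0 : b ≠ 0 := fun h => hb (h ▸ IsSquare.zero)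
  obtain ⟨g₀, hg₀⟩ := htrans v₁ (e.symm b) hv₁0 (by simpa using hb0)
  have hg₀m : a g₀ ^ m = -1 := by
    rw [← hav, hg₀, AddEquiv.apply_symm_apply]
    rcases FiniteField.pow_dichotomy hchar hb0 with h | h
    · exact absurd ((FiniteField.isSquare_iff hchar hb0).mpr h) hb
    · exact h
  have hN : N.index = 2 := by
    refine Subgroup.index_eq_two_iff.mpr ⟨g₀, fun g => ?_⟩
    change Xor (a (g * g₀) ^ m = 1) (a g ^ m = 1)
    rw [hχmul, hg₀m]
    rcases hχ g with h | h <;> rw [h] <;> simp [Xor, h11, Ne.symm h11]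
  exact ⟨N, Subgroup.normal_of_index_eq_two hN, hN⟩

/-- Dimension at least three always gives a semilinear group. -/
theorem semi_of_three_le [Group.IsSolvable G] (hn : 3 ≤ Module.finrank (ZMod q) V) : Semi ρ := by
  classical
  have hG := card_eq hfree htrans
  set n := Module.finrank (ZMod q) V with hn'
  by_cases h26 : q = 2 ∧ n = 6
  · obtain ⟨h2, h6⟩ := h26
    have h63 : Nat.card G = 63 := by rw [hG, h2, h6]; norm_num
    have hcores : ∀ s : Nat.Primes, ∀ a ∈ Cfsg.pCore (s : ℕ) G, ∀ b ∈ Cfsg.pCore (s : ℕ) G, a * b = b * a := by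
      intro s a ha b hb
      haveI : Fact (s : ℕ).Prime := ⟨s.2⟩
      rcases pgroup_cases hfree _ (CfsgLib.isPGroup_pCore (s : ℕ) (G := G)) with h | ⟨-, m, -, ⟨e⟩⟩
      · exact congrArg Subtype.val
          ((IsCyclic.isMulCommutative (α := Cfsg.pCore (s : ℕ) G)).is_comm.comm ⟨a, ha⟩ ⟨b, hb⟩)
      · exfalso
        haveI : NeZero (2 ^ m) := ⟨by positivity⟩
        have := (Cfsg.pCore (s : ℕ) G).card_subgroup_dvd_card
        rw [h63, Nat.card_congr e.toEquiv, Nat.card_eq_fintype_card, QuaternionGroup.card] at this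
        have : (2 : ℕ) ∣ 63 := Nat.dvd_trans ⟨2 * 2 ^ m, by ring⟩ this
        norm_num at this
    have hc := fitting_comm hcores
    haveI : (Cfsg.fittingSubgroup G).Normal := inferInstance
    refine semi_of_dvd hfree _ hc fun i hi hin hd => ?_
    rw [← hn', h6] at hin
    rw [h2] at hd
    haveI := cyclic_of_comm hfree hc
    have hCF : Subgroup.centralizer (Cfsg.fittingSubgroup G : Set G) = Cfsg.fittingSubgroup G :=
      le_antisymm CfsgLib.centralizer_fitting_le fun a ha => Subgroup.mem_centralizer_iff.mpr fun b hb => hc b hb a ha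
    have hidx : (Cfsg.fittingSubgroup G).index ∣ Nat.totient (Nat.card (Cfsg.fittingSubgroup G)) := by
      conv_lhs => rw [← hCF, ← ker_conjNormal, Subgroup.index_ker]
      rw [← IsCyclic.card_mulAut]
      exact Subgroup.card_subgroup_dvd_card _
    have hci := (Cfsg.fittingSubgroup G).card_mul_index
    rw [h63] at hci
    have hd63 : Nat.card (Cfsg.fittingSubgroup G) ∣ 63 := ⟨_, hci.symm⟩
    generalize Nat.card (Cfsg.fittingSubgroup G) = f at hd hd63 hidx hci
    have hf : f ≤ 63 := Nat.le_of_dvd (by norm_num) hd63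
    have hfpos : 0 < f := Nat.pos_of_dvd_of_pos hd63 (by norm_num)
    have hle := Nat.le_of_dvd (Nat.totient_pos.mpr hfpos) hidx
    have htot := Nat.totient_le f
    have h8 : 8 ≤ f := by nlinarith
    interval_cases i <;> norm_num at hd <;>
      first | omega | (have := Nat.le_of_dvd (by norm_num) hd; interval_cases f <;> omega)
  obtain ⟨r, hr, hrd, hprim⟩ := Cfsg.Agent.S2904.result q n hq.out.one_lt (by omega) h26 (by omega)
  haveI := Fact.mk hr
  have hnr : n < r := by
    have h0 : (q : ZMod r) ≠ 0 := fun h => by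
      have h1 := (ZMod.natCast_eq_zero_iff _ _).mp h
      have h2 : r ∣ q ^ n := h1.trans (dvd_pow_self q (by omega))
      have h3 := Nat.dvd_sub h2 hrd
      rw [Nat.sub_sub_self (Nat.one_le_pow _ _ hq.out.pos)] at h3
      exact hr.one_lt.ne' (Nat.dvd_one.mp h3)
    have hdvd : ∀ k, r ∣ q ^ k - 1 ↔ (q : ZMod r) ^ k = 1 := fun k => by
      rw [← ZMod.natCast_eq_zero_iff, Nat.cast_sub (Nat.one_le_pow _ _ hq.out.pos), Nat.cast_pow, Nat.cast_one,
        sub_eq_zero]
    set d := orderOf (q : ZMod r)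
    have hd1 : d ∣ n := orderOf_dvd_of_pow_eq_one ((hdvd n).mp hrd)
    have hd2 : d ∣ r - 1 := orderOf_dvd_of_pow_eq_one (ZMod.pow_card_sub_one_eq_one h0)
    have hd0 : 0 < d := Nat.pos_of_dvd_of_pos hd2 (by have := hr.two_le; omega)
    have hdn : d = n := by
      refine le_antisymm (Nat.le_of_dvd (by omega) hd1) (le_of_not_gt fun hlt => ?_)
      exact hprim d hd0 hlt ((hdvd d).mpr (pow_orderOf_eq_one _))
    have := Nat.le_of_dvd (by have := hr.two_le; omega) hd2
    omega
  have hr5 : 5 ≤ r := by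
    by_contra hlt
    have : r = 4 := by omega
    exact absurd (this ▸ hr) (by norm_num)
  exact semi_of_primitive hfree hr hr5 hnr (hG ▸ hrd) fun i hi hin => hprim i hi hin

/-- The two-dimensional case. -/
theorem two_dim [Group.IsSolvable G] (hn : Module.finrank (ZMod q) V = 2) :
    Semi ρ ∨ ((q = 5 ∨ q = 7 ∨ q = 11 ∨ q = 23) ∧ ((∃ N : Subgroup G, N.Normal ∧ N.index = 2) ∨
      (q = 5 ∧ Nonempty (G ≃* SL23)) ∨ (q = 11 ∧ Nonempty (G ≃* SL23 × Multiplicative (ZMod 5))))) := by
  classical
  by_cases hA : ∃ A : Subgroup G, A.Normal ∧ (∀ a ∈ A, ∀ b ∈ A, a * b = b * a) ∧ ¬ Nat.card A ∣ q - 1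
  · obtain ⟨A, hAn, hAc, hAd⟩ := hA
    left
    refine semi_of_dvd hfree A hAc fun i hi hin => ?_
    rw [hn] at hin
    obtain rfl : i = 1 := by omega
    rwa [pow_one]
  right
  push Not at hA
  obtain ⟨Q, hQn, ⟨e⟩, hC⟩ := q8_case hfree htrans hn hA
  have hZc : ∀ a ∈ Subgroup.center G, ∀ b ∈ Subgroup.center G, a * b = b * a :=
    fun a _ b hb => Subgroup.mem_center_iff.mp hb a
  have hz := hA _ inferInstance hZc
  have hzc := (Subgroup.center G).card_mul_index
  rw [card_eq hfree htrans, hn] at hzc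
  have hc24 : (Subgroup.center G).index ∣ 24 := by
    rw [← hC, ← ker_conjNormal, Subgroup.index_ker]
    refine (Subgroup.card_subgroup_dvd_card _).trans ?_
    rw [Nat.card_congr (MulAut.congr e).toEquiv]
    exact CfsgLib.LocalFusion.q8_card_aut_dvd
  have hQ8 : Nat.card Q = 8 := by
    rw [Nat.card_congr e.toEquiv, Nat.card_eq_fintype_card, QuaternionGroup.card]
  -- the centre meets `Q` in the centre of `Q`
  have hZQ : Nat.card ((Subgroup.center G).subgroupOf Q) = 2 := by
    rw [← q8_center_card]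
    refine Nat.card_congr (e.toEquiv.subtypeEquiv fun x => ?_)
    rw [Subgroup.mem_subgroupOf, MulEquiv.toEquiv_eq_coe, EquivLike.coe_coe]
    constructor
    · intro hx d
      obtain ⟨d, rfl⟩ := e.surjective d
      rw [← map_mul, ← map_mul]
      exact congrArg e (Subtype.ext (Subgroup.mem_center_iff.mp hx d))
    · intro hx
      rw [← hC, Subgroup.mem_centralizer_iff]
      intro b hb
      have := hx (e ⟨b, hb⟩)
      rw [← map_mul, ← map_mul] at this
      exact congrArg Subtype.val (e.injective this)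
  have hrel : (Subgroup.center G).relIndex Q = 4 := by
    have := ((Subgroup.center G).subgroupOf Q).card_mul_index
    rw [hZQ, hQ8] at this
    rw [Subgroup.relIndex]; omega
  have h4c : 4 ∣ (Subgroup.center G).index := hrel ▸ Subgroup.relIndex_dvd_index_of_normal (Subgroup.center G) Q
  have h2z : 2 ∣ Nat.card (Subgroup.center G) := by
    rw [← hZQ]
    exact Subgroup.card_dvd_of_injective (MonoidHom.mk'
      (fun x : (Subgroup.center G).subgroupOf Q => (⟨(x : Q), x.2⟩ : Subgroup.center G)) fun _ _ => rfl)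
      fun x y h => Subtype.ext (Subtype.ext (by exact congrArg (fun w : Subgroup.center G => (w : G)) h))
  generalize hzdef : Nat.card (Subgroup.center G) = z at hz hzc h2z
  generalize hcdef : (Subgroup.center G).index = c at hzc hc24 h4c
  have hq1 : q + 1 ∣ c := by
    obtain ⟨k, hk⟩ := hz
    have hz0 : 0 < z := hzdef ▸ Nat.card_pos
    refine ⟨k, ?_⟩
    have h1 : q ^ 2 - 1 = z * ((q + 1) * k) := by
      rw [show q ^ 2 - 1 = (q + 1) * (q - 1) by rw [← Nat.sq_sub_sq q 1, one_pow], hk]; ring
    exact Nat.eq_of_mul_eq_mul_left hz0 (by rw [← h1]; exact hzc)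
  have hc0 : 0 < c := Nat.pos_of_dvd_of_pos hc24 (by norm_num)
  have hcle := Nat.le_of_dvd (by norm_num) hc24
  have hqle : q + 1 ≤ c := Nat.le_of_dvd hc0 hq1
  have hqc : (q = 2 ∧ c = 12) ∨ (q = 2 ∧ c = 24) ∨ (q = 3 ∧ c = 4) ∨ ((q = 3 ∨ q = 5 ∨ q = 7 ∨ q = 11 ∨ q = 23)
      ∧ (c = 8 ∨ c = 12 ∨ c = 24)) := by
    have hp := hq.out
    have := hp.two_le
    have : q ≤ 23 := by omega
    interval_cases c <;> first | omega | (interval_cases q <;> first | omega | norm_num at hp)
  have hz2 : q ≠ 2 := fun h => by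
    subst h
    have := Nat.le_of_dvd (by norm_num) (h2z.trans hz)
    omega
  have hq3 : q ≠ 3 := fun h => by
    subst h
    have hz2 : z = 2 := by
      have := Nat.le_of_dvd (by norm_num) hz
      have := Nat.le_of_dvd (hzdef ▸ Nat.card_pos) h2z
      omega
    have hG8 : Nat.card G = 8 := by rw [card_eq hfree htrans, hn]; norm_num
    have hQtop : Q = ⊤ := Subgroup.eq_top_of_card_eq Q (by rw [hQ8, hG8])
    let y : G := ((e.symm (QuaternionGroup.a 1) : Q) : G)
    have hy : orderOf y = 4 := by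
      rw [Subgroup.orderOf_coe, MulEquiv.orderOf_eq, QuaternionGroup.orderOf_a_one]
    have hyi : (Subgroup.zpowers y).index = 2 := by
      have := (Subgroup.zpowers y).card_mul_index
      rw [Nat.card_zpowers, hy, hG8] at this
      omega
    have := hA _ (Subgroup.normal_of_index_eq_two hyi) fun a ha b hb => by
      obtain ⟨i, rfl⟩ := Subgroup.mem_zpowers_iff.mp ha
      obtain ⟨j, rfl⟩ := Subgroup.mem_zpowers_iff.mp hb
      rw [← zpow_add, ← zpow_add, add_comm]
    rw [Nat.card_zpowers, hy] at this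
    norm_num at this
  obtain ⟨hqv, hcv⟩ : (q = 5 ∨ q = 7 ∨ q = 11 ∨ q = 23) ∧ (c = 8 ∨ c = 12 ∨ c = 24) := by omega
  refine ⟨hqv, ?_⟩
  haveI : (Subgroup.center G).Normal := inferInstance
  have hK : (Subgroup.center G ⊔ Q).index * 4 = c := by
    rw [← hcdef, mul_comm, ← hrel, ← Subgroup.relIndex_sup_right, sup_comm,
      Subgroup.relIndex_mul_index le_sup_left]
  rcases hcv with rfl | rfl | rfl
  · left; exact ⟨Subgroup.center G ⊔ Q, inferInstance, by omega⟩
  · right
    have h3 : 3 ∣ Nat.card G := by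
      rw [card_eq hfree htrans, hn, ← hzc]; exact Dvd.dvd.mul_left (by norm_num) z
    haveI := Fact.mk Nat.prime_three
    obtain ⟨y, hy⟩ := exists_prime_orderOf_dvd_card' 3 h3
    have hq511 : (q = 5 ∧ z = 2) ∨ (q = 11 ∧ z = 10) := by
      rcases hqv with rfl | rfl | rfl | rfl <;> norm_num at hzc hq1 <;> omega
    have hyC : y ∉ Subgroup.centralizer (Q : Set G) := fun h => by
      rw [hC] at h
      have := Subgroup.orderOf_dvd_natCard _ h
      rw [hy, hzdef] at this
      omega
    obtain ⟨f, hf⟩ := exists_sl23 e hy hyC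
    rcases hq511 with ⟨rfl, rfl⟩ | ⟨rfl, rfl⟩
    · left
      refine ⟨rfl, ⟨(MulEquiv.ofBijective f ((Nat.bijective_iff_injective_and_card f).mpr ⟨hf, ?_⟩)).symm⟩⟩
      rw [sl23_card, card_eq hfree htrans, hn]; norm_num
    · right
      haveI := Fact.mk Nat.prime_five
      obtain ⟨w, hw⟩ := exists_prime_orderOf_dvd_card' (G := Subgroup.center G) 5 (by rw [hzdef]; norm_num)
      let κ : Multiplicative (ZMod 5) →* G := (Subgroup.zpowers (w : G)).subtype.comp
        (mulEquivOfCyclicCardEq (by rw [Nat.card_congr Multiplicative.toAdd, Nat.card_zmod, Nat.card_zpowers,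
          Subgroup.orderOf_coe, hw]) : Multiplicative (ZMod 5) ≃* Subgroup.zpowers (w : G)).toMonoidHom
      have hκ : Function.Injective κ := (Subgroup.subtype_injective _).comp (MulEquiv.injective _)
      have hκc : ∀ t, κ t ∈ Subgroup.center G := fun t =>
        (Subgroup.zpowers_le.mpr w.2) (SetLike.coe_mem _)
      let F := MonoidHom.noncommCoprod f κ fun s t => Subgroup.mem_center_iff.mp (hκc t) (f s)
      have hF : Function.Injective F := by
        refine (injective_iff_map_eq_one F).mpr ?_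
        rintro ⟨s, t⟩ h
        change f s * κ t = 1 at h
        have h5 : (s : SL23) ^ 5 = 1 := hf (by
          rw [map_pow, eq_inv_of_mul_eq_one_left h, inv_pow, ← map_pow, show t ^ 5 = 1 by
            rw [← orderOf_dvd_iff_pow_eq_one]
            exact (orderOf_dvd_natCard t).trans (by rw [Nat.card_congr Multiplicative.toAdd, Nat.card_zmod]),
            map_one, inv_one, map_one])
        have hs : s = 1 := orderOf_eq_one_iff.mp (Nat.eq_one_of_dvd_coprimes (by norm_num : Nat.Coprime 5 24)
          (orderOf_dvd_of_pow_eq_one h5) (sl23_card ▸ orderOf_dvd_natCard s))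
        subst hs
        rw [map_one, one_mul] at h
        rw [hκ (h.trans (map_one κ).symm)]
        rfl
      refine ⟨rfl, ⟨(MulEquiv.ofBijective F ((Nat.bijective_iff_injective_and_card F).mpr ⟨hF, ?_⟩)).symm⟩⟩
      rw [Nat.card_prod, sl23_card, Nat.card_congr Multiplicative.toAdd, Nat.card_zmod, card_eq hfree htrans, hn]
      norm_num
  · left; exact index_two_of_six (Subgroup.center G ⊔ Q) (by omega)

end CfsgLib.RegularLinear
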